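import Cfsg.Prelude.Def_Classical
import Cfsg.Agent.Classical.HermGroup

/-!
The field with nine elements, with a decidable structure, and `SU₃(3)` matrices over it.
-/

set_option autoImplicit false

open Cfsg.Agent.Classical Cfsg.Agent.Classical.Herm
open scoped Matrix

namespace Cfsg.Agent.U33

/-- The field with nine elements, `re + im·i` with `i² = -1`. -/
structure F9 where
  /-- Real part. -/
  re : Fin 3
  /-- Imaginary part. -/
  im : Fin 3
  deriving DecidableEq

namespace F9

/-- The underlying pairs. -/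
def pairEquiv : Fin 3 × Fin 3 ≃ F9 where
  toFun p := ⟨p.1, p.2⟩
  invFun a := (a.re, a.im)

instance : Fintype F9 := Fintype.ofEquiv _ pairEquiv

instance : Zero F9 := ⟨⟨0, 0⟩⟩
instance : One F9 := ⟨⟨1, 0⟩⟩
instance : Inhabited F9 := ⟨⟨0, 0⟩⟩
instance : Add F9 := ⟨fun a b => ⟨a.re + b.re, a.im + b.im⟩⟩
instance : Neg F9 := ⟨fun a => ⟨-a.re, -a.im⟩⟩
instance : Mul F9 := ⟨fun a b => ⟨a.re * b.re - a.im * b.im, a.re * b.im + a.im * b.re⟩⟩
instance : Inv F9 :=
  ⟨fun a => ⟨a.re * (a.re * a.re + a.im * a.im), -a.im * (a.re * a.re + a.im * a.im)⟩⟩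

instance : Field F9 where
  add_assoc := by decide +kernel
  zero_add := by decide +kernel
  add_zero := by decide +kernel
  nsmul := nsmulRec
  zsmul := zsmulRec
  neg_add_cancel := by decide +kernel
  add_comm := by decide +kernel
  left_distrib := by decide +kernel
  right_distrib := by decide +kernel
  zero_mul := by decide +kernel
  mul_zero := by decide +kernel
  mul_assoc := by decide +kernel
  one_mul := by decide +kernel
  mul_one := by decide +kernel
  mul_comm := by decide +kernel
  exists_pair_ne := ⟨0, 1, by decide⟩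
  mul_inv_cancel := by decide +kernel
  inv_zero := rfl
  nnqsmul := _
  nnqsmul_def := fun _ _ => rfl
  qsmul := _
  qsmul_def := fun _ _ => rfl

theorem card_eq : Fintype.card F9 = 9 := rfl

/-- The automorphism of order two. -/
def frob : F9 →+* F9 where
  toFun a := ⟨a.re, -a.im⟩
  map_one' := rfl
  map_mul' := by decide +kernel
  map_zero' := rfl
  map_add' := by decide +kernel

theorem frob_pow : ∀ a : F9, frob a = a ^ 3 := by
  have h : ∀ a : F9, frob a = a * (a * a) := by decide +kernel
  exact fun a => (h a).trans (by rw [pow_succ', pow_two])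

end F9

/-- Entry of a packed matrix. -/
def entry (k : ℕ) (i : ℕ) : F9 :=
  ⟨⟨k / 9 ^ i % 3, Nat.mod_lt _ (by norm_num)⟩, ⟨k / 9 ^ i / 3 % 3, Nat.mod_lt _ (by norm_num)⟩⟩

/-- A packed matrix. -/
def mat (k : ℕ) : Matrix (Fin 3) (Fin 3) F9 := Matrix.of fun i j => entry k (3 * i.val + j.val)

/-- The Hermitian product. -/
def form (u v : Fin 3 → F9) : F9 := F9.frob (u 0) * v 0 + F9.frob (u 1) * v 1 + F9.frob (u 2) * v 2

/-- An element of `SU₃(3)` from a matrix. -/
def mk (M : Matrix (Fin 3) (Fin 3) F9) (hd : M.det = 1)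
    (h : ∀ i j, form (fun k => M k i) (fun k => M k j) = if i = j then 1 else 0) : Cfsg.SU 3 F9 3 :=
  ⟨⟨M, hd⟩, (mem_SU_iff F9.frob_pow _).2 ((preserves_iff_cols M).2 fun i j => by
    simp only [Matrix.mulVec_single_one, hermB_apply, Fin.sum_univ_three]
    exact h i j)⟩

theorem ext' {A B : Cfsg.SU 3 F9 3} (h : A.1.1 = B.1.1) : A = B := Subtype.ext (Subtype.ext h)

end Cfsg.Agent.U33
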