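import Cfsg.Agent.U33.Data
import Cfsg.Agent.U33.Field

/-!
A simple subgroup of order 168 of `PSU₃(3)`.
-/

set_option autoImplicit false
set_option maxRecDepth 100000

open scoped Matrix

namespace Cfsg.Agent.U33

/-- The matrices of the subgroup. -/
def M (i : ℕ) : Matrix (Fin 3) (Fin 3) F9 := mat (keys.getD i 0)

theorem M_det : ∀ i : Fin 168, (M i.val).det = 1 := by decide +kernel

theorem M_form : ∀ (i : Fin 168) (a b : Fin 3),
    form (fun k => M i.val k a) (fun k => M i.val k b) = if a = b then 1 else 0 := by decide +kernel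

/-- The elements. -/
def el (i : Fin 168) : Cfsg.SU 3 F9 3 := mk (M i.val) (M_det i) (M_form i)

theorem mulA : ∀ i : Fin 168, tabA.getD i.val 0 < 168 ∧ M i.val * M genA = M (tabA.getD i.val 0) := by
  decide +kernel

theorem mulB : ∀ i : Fin 168, tabB.getD i.val 0 < 168 ∧ M i.val * M genB = M (tabB.getD i.val 0) := by
  decide +kernel

theorem tree : ∀ i : Fin 168, i.val = 0 ∨ (parent.getD i.val 0 < i.val ∧
    M i.val = M (parent.getD i.val 0) * M (if step.getD i.val false then genB else genA)) := by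
  decide +kernel

theorem M_zero : M 0 = 1 := by decide +kernel

theorem el_zero : el 0 = 1 := ext' M_zero

theorem gen_lt : genA < 168 ∧ genB < 168 := by decide

theorem M_mul_closed : ∀ (n : ℕ) (j : Fin 168), j.val < n → ∀ i : Fin 168, ∃ k : Fin 168, M i.val * M j.val = M k.val := by
  intro n
  induction n with
  | zero => intro j hj; omega
  | succ n ih =>
    intro j hj i
    rcases tree j with h | ⟨h1, h2⟩
    · exact ⟨i, by rw [h, M_zero, mul_one]⟩
    · obtain ⟨k, hk⟩ := ih ⟨parent.getD j.val 0, h1.trans j.2⟩ (show parent.getD j.val 0 < n by omega) i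
      rw [h2, ← mul_assoc, hk]
      cases step.getD j.val false
      · exact ⟨⟨_, (mulA k).1⟩, (mulA k).2⟩
      · exact ⟨⟨_, (mulB k).1⟩, (mulB k).2⟩

theorem el_mul (i j : Fin 168) : ∃ k, el i * el j = el k := by
  obtain ⟨k, hk⟩ := M_mul_closed 168 j j.2 i
  exact ⟨k, ext' hk⟩

theorem keys_nodup : (keys.toList).Nodup := by decide +kernel

theorem encode_M : ∀ i : Fin 168,
    (List.range 9).foldl (fun s e => s + ((entry (keys.getD i.val 0) e).re.val +
      3 * (entry (keys.getD i.val 0) e).im.val) * 9 ^ e) 0 = keys.getD i.val 0 := by decide +kernel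

theorem keys_size : keys.size = 168 := by decide +kernel

theorem el_injective : Function.Injective el := by
  intro i j h
  have hM : M i.val = M j.val := congrArg (fun A : Cfsg.SU 3 F9 3 => A.1.1) h
  have hent : ∀ e, e < 9 → entry (keys.getD i.val 0) e = entry (keys.getD j.val 0) e := by
    intro e he
    have h2 := congrFun (congrFun hM ⟨e / 3, by omega⟩) ⟨e % 3, by omega⟩
    have he' : 3 * (e / 3) + e % 3 = e := by omega
    simpa [M, mat, he'] using h2
  have hkey : keys.getD i.val 0 = keys.getD j.val 0 := by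
    rw [← encode_M i, ← encode_M j]
    exact List.foldl_ext _ _ _ fun s e he => by rw [hent e (List.mem_range.mp he)]
  have hi : i.val < keys.toList.length := by simp [keys_size]
  have hj : j.val < keys.toList.length := by simp [keys_size]
  refine Fin.ext ((keys_nodup.getElem_inj_iff (hi := hi) (hj := hj)).mp ?_)
  simpa [Array.getD, keys_size, i.2, j.2] using hkey

/-- The subgroup of order 168. -/
noncomputable def H : Subgroup (Cfsg.SU 3 F9 3) :=
  { carrier := Set.range el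
    mul_mem' := by
      rintro _ _ ⟨i, rfl⟩ ⟨j, rfl⟩
      obtain ⟨k, hk⟩ := el_mul i j
      exact ⟨k, hk.symm⟩
    one_mem' := ⟨0, el_zero⟩
    inv_mem' := by
      rintro _ ⟨i, rfl⟩
      obtain ⟨j, hj⟩ := (Finite.injective_iff_surjective (f := fun j : Fin 168 => (el_mul i j).choose)).mp
        (fun a b hab => el_injective (mul_left_cancel
          ((el_mul i a).choose_spec.trans ((congrArg el hab).trans (el_mul i b).choose_spec.symm)))) 0
      refine ⟨j, (inv_eq_of_mul_eq_one_right ?_).symm⟩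
      rw [(el_mul i j).choose_spec, ← el_zero]
      exact congrArg el hj }

theorem card_H : Nat.card H = 168 :=
  (Nat.card_congr (Equiv.ofInjective el el_injective).symm).trans (by simp)

theorem pow_data : ∀ i : Fin 168, i.val = 0 ∨ (powConj.getD i.val 0 < 168 ∧
    (powRep.getD i.val 0 = 1 ∨ powRep.getD i.val 0 = 2 ∨ powRep.getD i.val 0 = 3) ∧
    (List.range (powExp.getD i.val 0)).foldl (fun X _ => X * M i.val) 1 * M (powConj.getD i.val 0) =
      M (powConj.getD i.val 0) * M (powRep.getD i.val 0)) := by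
  decide +kernel

theorem foldl_pow (i : Fin 168) : ∀ e : ℕ,
    (List.range e).foldl (fun X _ => X * M i.val) 1 = (el i ^ e).1.1 := by
  intro e
  induction e with
  | zero => simp
  | succ e ih =>
    rw [List.range_succ, List.foldl_append, ih, pow_succ]
    rfl

/-- A product of conjugates of `M r`. -/
def conjProd (r : ℕ) (l : List (ℕ × ℕ)) : Matrix (Fin 3) (Fin 3) F9 :=
  l.foldr (fun c X => M c.1 * M r * M c.2 * X) 1

theorem words_ok : ∀ r ∈ [1, 2, 3], (∃ w ∈ wordsA, w.1 = r ∧ (∀ c ∈ w.2, c.1 < 168 ∧ c.2 < 168 ∧ M c.1 * M c.2 = 1) ∧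
      conjProd r w.2 = M genA) ∧
    (∃ w ∈ wordsB, w.1 = r ∧ (∀ c ∈ w.2, c.1 < 168 ∧ c.2 < 168 ∧ M c.1 * M c.2 = 1) ∧
      conjProd r w.2 = M genB) := by
  decide +kernel

theorem el_mat (i : Fin 168) : (el i).1.1 = M i.val := rfl

attribute [local irreducible] M

theorem conjProd_mem {N : Subgroup H} [N.Normal] {r : Fin 168} {x : H} (hx : x ∈ N) (hxr : (x : Cfsg.SU 3 F9 3) = el r) :
    ∀ l : List (ℕ × ℕ), (∀ c ∈ l, c.1 < 168 ∧ c.2 < 168 ∧ M c.1 * M c.2 = 1) →
      ∃ y ∈ N, (y : Cfsg.SU 3 F9 3).1.1 = conjProd r.val l := by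
  intro l
  induction l with
  | nil => intro _; exact ⟨1, N.one_mem, rfl⟩
  | cons c l ih =>
    intro hl
    obtain ⟨y, hy, hyM⟩ := ih fun d hd => hl d (List.mem_cons_of_mem _ hd)
    obtain ⟨h1, h2, h3⟩ := hl c (List.mem_cons_self ..)
    let g : H := ⟨el ⟨c.1, h1⟩, _, rfl⟩
    have hgc : el ⟨c.1, h1⟩ * el ⟨c.2, h2⟩ = 1 := ext' (by
      rw [Subgroup.coe_mul, Matrix.SpecialLinearGroup.coe_mul, el_mat, el_mat, Subgroup.coe_one,
        Matrix.SpecialLinearGroup.coe_one]
      exact h3)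
    have hg : el ⟨c.2, h2⟩ = (g : Cfsg.SU 3 F9 3)⁻¹ := (inv_eq_of_mul_eq_one_right hgc).symm
    refine ⟨g * x * g⁻¹ * y, N.mul_mem (Subgroup.Normal.conj_mem inferInstance _ hx _) hy, ?_⟩
    have hgv : (g : Cfsg.SU 3 F9 3) = el ⟨c.1, h1⟩ := rfl
    have hv : ((g * x * g⁻¹ * y : H) : Cfsg.SU 3 F9 3) = el ⟨c.1, h1⟩ * el r * el ⟨c.2, h2⟩ * (y : Cfsg.SU 3 F9 3) := by
      simp only [Subgroup.coe_mul, Subgroup.coe_inv, hgv, hxr, hg]
    rw [hv]
    simp only [Subgroup.coe_mul, Matrix.SpecialLinearGroup.coe_mul, el_mat, hyM, conjProd,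
      List.foldr_cons]

theorem isSimpleGroup_H : IsSimpleGroup H := by
  haveI : Nontrivial H := Finite.one_lt_card_iff_nontrivial.mp (by rw [card_H]; norm_num)
  refine ⟨fun N hN => ?_⟩
  by_cases hbot : N = ⊥
  · exact Or.inl hbot
  refine Or.inr ((Subgroup.eq_top_iff' N).mpr ?_)
  obtain ⟨⟨z, hz⟩, hz1⟩ := Subgroup.ne_bot_iff_exists_ne_one.mp hbot
  obtain ⟨i, hi⟩ := z.2
  rcases pow_data i with h0 | ⟨hc, hr, he⟩
  · exact absurd (Subtype.ext (Subtype.ext (hi.symm.trans ((congrArg el (Fin.ext h0)).trans el_zero)))) hz1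
  obtain ⟨r, hrv⟩ : ∃ r : Fin 168, r.val = powRep.getD i.val 0 := ⟨⟨powRep.getD i.val 0, by rcases hr with h | h | h <;> rw [h] <;> norm_num⟩, rfl⟩
  let g : H := ⟨el ⟨_, hc⟩, _, rfl⟩
  have hxN : g⁻¹ * z ^ powExp.getD i.val 0 * g⁻¹⁻¹ ∈ N := Subgroup.Normal.conj_mem inferInstance _ (N.pow_mem hz _) _
  have hxr : ((g⁻¹ * z ^ powExp.getD i.val 0 * g⁻¹⁻¹ : H) : Cfsg.SU 3 F9 3) = el r := by
    have h : el i ^ powExp.getD i.val 0 * el ⟨_, hc⟩ = el ⟨_, hc⟩ * el r := ext' (by
      show (el i ^ powExp.getD i.val 0).1.1 * M _ = M _ * M r.val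
      rw [← foldl_pow, hrv]
      exact he)
    rw [inv_inv, Subgroup.coe_mul, Subgroup.coe_mul, Subgroup.coe_inv, SubgroupClass.coe_pow, ← hi]
    show (el ⟨_, hc⟩)⁻¹ * el i ^ powExp.getD i.val 0 * el ⟨_, hc⟩ = el r
    rw [mul_assoc, h, inv_mul_cancel_left]
  obtain ⟨⟨wA, -, -, hA, hAM⟩, ⟨wB, -, -, hB, hBM⟩⟩ :=
    words_ok r.val (by rcases hr with h | h | h <;> simp [hrv, h])
  obtain ⟨yA, hyA, hyAM⟩ := conjProd_mem hxN hxr wA.2 hA
  obtain ⟨yB, hyB, hyBM⟩ := conjProd_mem hxN hxr wB.2 hB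
  suffices ∀ (n : ℕ) (j : Fin 168), j.val < n → ∀ u : H, (u : Cfsg.SU 3 F9 3) = el j → u ∈ N by
    intro u
    obtain ⟨j, hj⟩ := u.2
    exact this 168 j j.2 u hj.symm
  intro n
  induction n with
  | zero => intro j hj; omega
  | succ n ih =>
    intro j hj u hu
    rcases tree j with h | ⟨h1, h2⟩
    · have hu1 : u = 1 := Subtype.ext (hu.trans ((congrArg el (Fin.ext h)).trans el_zero))
      exact hu1 ▸ N.one_mem
    · let p : Fin 168 := ⟨parent.getD j.val 0, h1.trans j.2⟩
      have hp := ih p (show parent.getD j.val 0 < n by omega) ⟨el p, _, rfl⟩ rfl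
      have key : ∀ y : H, y ∈ N → (y : Cfsg.SU 3 F9 3).1.1 = M (if step.getD j.val false then genB else genA) →
          u ∈ N := by
        intro y hy hyM
        have : u = ⟨el p, _, rfl⟩ * y := by
          refine Subtype.ext (hu.trans (ext' ?_))
          show M j.val = M p.val * (y : Cfsg.SU 3 F9 3).1.1
          rw [hyM, h2]
        exact this ▸ N.mul_mem hp hy
      cases hs : step.getD j.val false
      · exact key yA hyA (by rw [hyAM, hAM, hs]; rfl)
      · exact key yB hyB (by rw [hyBM, hBM, hs]; rfl)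

theorem not_commute : ∀ i : Fin 168, i.val = 0 ∨ M i.val * M genA ≠ M genA * M i.val ∨
    M i.val * M genB ≠ M genB * M i.val := by
  decide +kernel

theorem exists_simple_168 : ∃ K : Subgroup (Cfsg.PSU 3 F9 3), Nat.card K = 168 ∧ IsSimpleGroup K := by
  let φ : H →* Cfsg.PSU 3 F9 3 := (QuotientGroup.mk' _).comp H.subtype
  have hinj : Function.Injective φ := by
    refine (injective_iff_map_eq_one φ).mpr fun u hu => ?_
    obtain ⟨i, hi⟩ := u.2
    have hc : (u : Cfsg.SU 3 F9 3) ∈ Subgroup.center (Cfsg.SU 3 F9 3) := (QuotientGroup.eq_one_iff _).mp hu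
    rw [← hi] at hc
    have hcomm : ∀ j : Fin 168, M i.val * M j.val = M j.val * M i.val := fun j =>
      congrArg (fun A : Cfsg.SU 3 F9 3 => A.1.1) (Subgroup.mem_center_iff.mp hc (el j)).symm
    rcases not_commute i with h | h | h
    · exact Subtype.ext (hi.symm.trans ((congrArg el (Fin.ext h)).trans el_zero))
    · exact absurd (hcomm ⟨genA, gen_lt.1⟩) h
    · exact absurd (hcomm ⟨genB, gen_lt.2⟩) h
  let e : H ≃* φ.range := MonoidHom.ofInjective hinj
  refine ⟨φ.range, (Nat.card_congr e.toEquiv).symm.trans card_H, ?_⟩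
  haveI := isSimpleGroup_H
  exact e.symm.isSimpleGroup

end Cfsg.Agent.U33
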