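import Cfsg.Prelude.Def_DegreeGraph
import Cfsg.Agent.U33.LineInduced
import Cfsg.Agent.Char.FS
import Cfsg.Agent.Char.Integral
import Cfsg.Agent.Char.Linear

/-!
Degrees of irreducible characters of `SU₃(3)`: there are degrees divisible by 14, by 21 and by 6.
-/

set_option autoImplicit false
set_option maxHeartbeats 400000
set_option synthInstance.maxSize 2000

open scoped ComplexConjugate

namespace Cfsg.Agent.U33

open Cfsg Cfsg.Agent.Char

local notation "Irr" => IrrCharacter SU9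

/-- The degree. -/
noncomputable def deg (χ : Irr) : ℕ := charDegree (χ : SU9 → ℂ)

theorem apply_one (χ : Irr) : (χ : SU9 → ℂ) 1 = (deg χ : ℂ) := by
  obtain ⟨n, -, hn⟩ := IsIrr.degree χ.2
  rw [deg, charDegree_eq_natCast hn, hn]

theorem deg_pos (χ : Irr) : 0 < deg χ := by
  obtain ⟨n, h0, hn⟩ := IsIrr.degree χ.2
  rwa [deg, charDegree_eq_natCast hn]

theorem deg_mem (χ : Irr) : deg χ ∈ charDegrees SU9 := ⟨χ, rfl⟩

theorem deg_dvd (χ : Irr) : deg χ ∣ 6048 := card_SU ▸ IsIrr.degree_dvd_card χ.2 (apply_one χ)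

theorem deg_sq_le (χ : Irr) : deg χ * deg χ ≤ 6048 := by
  have h := sum_sq_degree (G := SU9)
  rw [Finset.sum_congr rfl fun ψ _ => by rw [apply_one ψ], card_SU] at h
  have h' : ∑ ψ : Irr, deg ψ ^ 2 = 6048 := by exact_mod_cast h
  rw [← h', ← pow_two]
  exact Finset.single_le_sum (f := fun ψ : Irr => deg ψ ^ 2) (fun _ _ => Nat.zero_le _)
    (Finset.mem_univ χ)

/-- The trivial character. -/
noncomputable def triv : Irr := ⟨fun _ => 1, isIrrCharacter_one⟩

theorem deg_triv : deg triv = 1 := charDegree_eq_natCast (by simp [triv])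

theorem eq_triv {χ : Irr} (h : deg χ = 1) : χ = triv := by
  obtain ⟨f, hf⟩ := IsChar.exists_hom (IsIrr.isCharacter χ.2) (by rw [apply_one, h, Nat.cast_one])
  have := isSimpleGroup_SU
  refine Subtype.ext (hf.trans (funext fun g => ?_))
  show (f g : ℂ) = 1
  rcases (MonoidHom.normal_ker f).eq_bot_or_eq_top with hk | hk
  · exfalso
    have hc : ∀ a b : SU9, a * b = b * a := fun a b =>
      (f.ker_eq_bot_iff.1 hk) (by rw [map_mul, map_mul, mul_comm])
    have h1 : (⊤ : Subgroup SU9) ≤ Subgroup.center SU9 := fun a _ =>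
      Subgroup.mem_center_iff.2 fun b => hc b a
    rw [center_SU, top_le_iff] at h1
    have h2 := congrArg (fun H : Subgroup SU9 => Nat.card H) h1
    simp only [Subgroup.card_top, Subgroup.card_bot, card_SU] at h2
    norm_num at h2
  · have : g ∈ f.ker := by rw [hk]; trivial
    rw [MonoidHom.mem_ker.1 this, Units.val_one]

/-- A character of norm two is the sum of two irreducible characters. -/
theorem exists_pair {G : Type*} [Group G] [Fintype G] {f : G → ℂ} (hf : IsCharacter G f)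
    (h2 : classInner f f = 2) : ∃ φ φ' : IrrCharacter G, φ ≠ φ' ∧
      f = (φ : G → ℂ) + (φ' : G → ℂ) ∧
      ∀ χ : IrrCharacter G, classInner f (χ : G → ℂ) ≠ 0 → χ = φ ∨ χ = φ' := by
  classical
  obtain ⟨m, hm, he, hn⟩ := IsChar.exists_mult hf
  rw [h2] at hn
  have hs : ∑ ψ, m ψ ^ 2 = 2 := by exact_mod_cast hn.symm
  have h1 : ∀ ψ, m ψ ≤ 1 := fun ψ => by
    have := Finset.single_le_sum (f := fun ψ => m ψ ^ 2) (fun _ _ => Nat.zero_le _) (Finset.mem_univ ψ)
    nlinarith
  have hind : ∀ ψ, m ψ = if m ψ ≠ 0 then 1 else 0 := fun ψ => by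
    have := h1 ψ
    split_ifs <;> omega
  have hc : (Finset.univ.filter fun ψ => m ψ ≠ 0).card = 2 := by
    rw [← hs, Finset.card_filter]
    exact Finset.sum_congr rfl fun ψ _ => by
      rw [← hind]
      rcases Nat.le_one_iff_eq_zero_or_eq_one.1 (h1 ψ) with e | e <;> rw [e] <;> rfl
  obtain ⟨φ, φ', hne, hS⟩ := Finset.card_eq_two.1 hc
  refine ⟨φ, φ', hne, ?_, fun χ hχ => ?_⟩
  · rw [he, ← Finset.sum_filter_of_ne (p := fun ψ => m ψ ≠ 0) (fun ψ _ hψ h0 => hψ (by simp [h0])),
      hS, Finset.sum_pair hne]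
    have a := hind φ; have b := hind φ'
    have hφ : φ ∈ Finset.univ.filter fun ψ => m ψ ≠ 0 := hS ▸ Finset.mem_insert_self _ _
    have hφ' : φ' ∈ Finset.univ.filter fun ψ => m ψ ≠ 0 :=
      hS ▸ Finset.mem_insert_of_mem (Finset.mem_singleton_self _)
    rw [if_pos (Finset.mem_filter.1 hφ).2] at a
    rw [if_pos (Finset.mem_filter.1 hφ').2] at b
    simp [a, b]
  · have : χ ∈ Finset.univ.filter fun ψ => m ψ ≠ 0 :=
      Finset.mem_filter.2 ⟨Finset.mem_univ _, fun h0 => hχ (by rw [hm, h0, Nat.cast_zero])⟩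
    rw [hS] at this
    simpa using this

/-- An element of the Sylow three-subgroup. -/
def syl (p : Fin 27) : SU9 := stab (sylIdx p)

/-- The average over the Sylow three-subgroup. -/
noncomputable def avg (f : SU9 → ℂ) : ℂ := (27 : ℂ)⁻¹ * ∑ p : Fin 27, f (syl p)

theorem sum_root_mul (e : Fin 8) :
    ∑ k : ZMod 8, root (-(k * (e.val : ZMod 8))) = if e.val = 0 then 8 else 0 := by
  have h := AddChar.sum_mulShift (ψ := (ZMod.stdAddChar : AddChar (ZMod 8) ℂ)) (-(e.val : ZMod 8))
    (ZMod.isPrimitive_stdAddChar 8)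
  have h0 : -(e.val : ZMod 8) = 0 ↔ e.val = 0 := by
    rw [neg_eq_zero, ZMod.natCast_eq_zero_iff]
    omega
  simp only [mul_neg, h0, ZMod.card] at h
  simpa [root] using h

theorem sum_classInner_psi [Fintype lineStab] (f : SU9 → ℂ) :
    ∑ k : ZMod 8, classInner (fun h : lineStab => f h) (fun h => (psi k h : ℂ)) = avg f := by
  simp only [classInner, card_lineStab,
    ← Fintype.sum_bijective stabB stabB_bijective _ _ (fun _ => rfl)]
  rw [← Finset.mul_sum, Finset.sum_comm]
  have hb : ∀ b : Fin 216, ∑ k : ZMod 8, f (stabB b) * conj (psi k (stabB b) : ℂ) =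
      if b.val < 27 then 8 * f (stab b) else 0 := by
    intro b
    simp only [psi_apply, root_conj, lam_stab, ← Finset.mul_sum]
    rw [sum_root_mul ⟨b.val / 27, by omega⟩]
    by_cases h : b.val < 27
    · rw [if_pos (Nat.div_eq_of_lt h), if_pos h, mul_comm]; rfl
    · rw [if_neg (by dsimp only; omega), if_neg h, mul_zero]
  rw [Finset.sum_congr rfl fun b _ => hb b, ← Finset.sum_filter]
  have hmap : (Finset.univ.filter fun b : Fin 216 => b.val < 27) =
      Finset.univ.map ⟨sylIdx, fun a b h => Fin.castLE_injective _ h⟩ := by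
    ext b
    simp only [Finset.mem_filter, Finset.mem_univ, true_and, Finset.mem_map,
      Function.Embedding.coeFn_mk]
    exact ⟨fun h => ⟨⟨b.val, h⟩, rfl⟩, fun ⟨p, hp⟩ => hp ▸ p.2⟩
  rw [hmap, Finset.sum_map, ← Finset.mul_sum, avg, ← mul_assoc]
  congr 1
  push_cast
  norm_num

theorem classInner_ind [Fintype lineStab] (χ : Irr) (k : ZMod 8) :
    classInner (χ : SU9 → ℂ) (ind k) =
      classInner (fun h : lineStab => (χ : SU9 → ℂ) h) (fun h => (psi k h : ℂ)) :=
  classInner_indFun_right lineStab _ (isClassFunction_of_isIrr χ.2)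

theorem sum_classInner_ind (χ : Irr) :
    ∑ k : ZMod 8, classInner (χ : SU9 → ℂ) (ind k) = avg (χ : SU9 → ℂ) := by
  have := Fintype.ofFinite lineStab
  rw [Finset.sum_congr rfl fun k _ => classInner_ind χ k, sum_classInner_psi]

theorem avg_ind (k : ZMod 8) : avg (ind k) = 2 := by
  have h : ∀ (p : Fin 27) (i : Fin 28), val k (eig (syl p).1.1 i) =
      if tabN (sylIdx p) i = 1 then 1 else 0 := by
    intro p i
    rw [syl, eig_stab]
    rcases tabN_syl p i with h | h <;> simp [h, ofCode, val, root_zero]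
  simp only [avg, ind_apply, h]
  rw [← Fintype.sum_prod_type (f := fun q : Fin 27 × Fin 28 =>
    if tabN (sylIdx q.1) q.2 = 1 then (1 : ℂ) else 0), ← Finset.sum_filter, Finset.sum_const,
    tabN_syl_count]
  norm_num

theorem apply_neg (χ : Irr) (j : Fin 13) :
    (χ : SU9 → ℂ) (syl (negIdx j)) = (χ : SU9 → ℂ) (syl (posIdx j)) := by
  have h := (mul_inv_real j).2
  have h' : syl (negIdx j) = stab (conjIdx j) * syl (posIdx j) * (stab (conjIdx j))⁻¹ := by
    rw [syl, syl, h, mul_inv_cancel_right]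
  rw [h', isClassFunction_of_isIrr χ.2]

theorem sum_syl (χ : Irr) : ∑ p : Fin 27, (χ : SU9 → ℂ) (syl p) =
    deg χ + 2 * ∑ j : Fin 13, (χ : SU9 → ℂ) (syl (posIdx j)) := by
  rw [Fin.sum_univ_succ, ← apply_one, show syl 0 = 1 from stab_zero]
  congr 1
  rw [← Fintype.sum_equiv (finSumFinEquiv (m := 13) (n := 13)) _ _ (fun _ => rfl),
    Fintype.sum_sum_type, two_mul]
  refine congrArg₂ (· + ·) (Finset.sum_congr rfl fun j _ => congrArg _ (congrArg syl (Fin.ext ?_)))
    (Finset.sum_congr rfl fun j _ => ?_)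
  · rw [finSumFinEquiv_apply_left]
    simp only [posIdx, Fin.val_succ, Fin.val_castAdd]
    omega
  · rw [← apply_neg χ j]
    refine congrArg _ (congrArg syl (Fin.ext ?_))
    rw [finSumFinEquiv_apply_right]
    simp only [negIdx, Fin.val_succ, Fin.coe_natAdd]
    omega

/-- The parity of the degree is the parity of the average on the Sylow three-subgroup. -/
theorem deg_parity (χ : Irr) {m : ℕ} (hm : avg (χ : SU9 → ℂ) = m) : Even (deg χ) ↔ Even m := by
  set s : ℂ := ∑ j : Fin 13, (χ : SU9 → ℂ) (syl (posIdx j))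
  have hint : IsIntegral ℤ s := IsIntegral.sum _ fun j _ => IsChar.isIntegral (IsIrr.isCharacter χ.2) _
  rw [avg, sum_syl] at hm
  have he : s = (((27 * (m : ℚ) - deg χ) / 2 : ℚ) : ℂ) := by
    push_cast
    linear_combination (27 / 2 : ℂ) * hm
  obtain ⟨z, hz⟩ := exists_int_of_isIntegral_rat (he ▸ hint)
  have h2 : (27 * (m : ℤ) - deg χ : ℤ) = 2 * z := by
    have : 27 * (m : ℚ) - deg χ = 2 * z := by rw [hz]; ring
    exact_mod_cast this
  simp only [Nat.even_iff]
  omega

theorem exists_mult_ind (χ : Irr) :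
    ∃ a : ZMod 8 → ℕ, (∀ k, classInner (χ : SU9 → ℂ) (ind k) = a k) ∧
      avg (χ : SU9 → ℂ) = (∑ k, a k : ℕ) := by
  choose a ha using fun k => classInner_isCharacter_eq_natCast (IsIrr.isCharacter χ.2) (isCharacter_ind k)
  refine ⟨a, ha, ?_⟩
  rw [← sum_classInner_ind, Nat.cast_sum]
  exact Finset.sum_congr rfl fun k _ => ha k

theorem classInner_triv_ind {k : ZMod 8} : classInner (triv : SU9 → ℂ) (ind k) = if k = 0 then 1 else 0 := by
  have := Fintype.ofFinite lineStab
  rw [classInner_ind]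
  show classInner (fun _ : lineStab => (1 : ℂ)) _ = _
  rw [← psi_zero, classInner_irr (isIrrCharacter_hom _) (isIrrCharacter_hom _)]
  exact if_congr ⟨fun h => (psi_injective h).symm, fun h => by rw [h]⟩ rfl rfl

/-- The decomposition for even exponents. -/
theorem even_case {k : ZMod 8} (hk : k * 4 = 0) : ∃ φ φ' : Irr,
    ind k = (φ : SU9 → ℂ) + (φ' : SU9 → ℂ) ∧
      (∀ χ : Irr, classInner (χ : SU9 → ℂ) (ind k) ≠ 0 → χ = φ ∨ χ = φ') ∧
      deg φ + deg φ' = 28 ∧
      ((deg φ = 1 ∧ deg φ' = 27) ∨ (deg φ = 27 ∧ deg φ' = 1) ∨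
        (deg φ = 7 ∧ deg φ' = 21) ∨ (deg φ = 21 ∧ deg φ' = 7)) := by
  obtain ⟨φ, φ', hne, he, hsupp⟩ := exists_pair (isCharacter_ind k) (norm_ind_of_even hk)
  have hd : deg φ + deg φ' = 28 := by
    have h := congrFun he 1
    rw [ind_one, Pi.add_apply, apply_one, apply_one] at h
    exact_mod_cast h.symm
  obtain ⟨a, ha, ha'⟩ := exists_mult_ind φ
  obtain ⟨b, hb, hb'⟩ := exists_mult_ind φ'
  have h1 : a k = 1 := by
    have h := ha k
    rw [he, classInner_add_right, classInner_irr_self φ.2,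
      classInner_irr_ne φ.2 φ'.2 (Subtype.coe_ne_coe.2 hne), add_zero] at h
    exact_mod_cast h.symm
  have h2 : b k = 1 := by
    have h := hb k
    rw [he, classInner_add_right, classInner_irr_self φ'.2,
      classInner_irr_ne φ'.2 φ.2 (Subtype.coe_ne_coe.2 hne.symm), zero_add] at h
    exact_mod_cast h.symm
  have hsum : (∑ l, a l) + (∑ l, b l) = 2 := by
    have h := avg_ind k
    rw [he] at h
    have : avg ((φ : SU9 → ℂ) + (φ' : SU9 → ℂ)) = avg (φ : SU9 → ℂ) + avg (φ' : SU9 → ℂ) := by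
      simp [avg, Finset.sum_add_distrib, mul_add]
    rw [this, ha', hb'] at h
    exact_mod_cast h
  have hA := Finset.single_le_sum (f := a) (fun _ _ => Nat.zero_le _) (Finset.mem_univ k)
  have hB := Finset.single_le_sum (f := b) (fun _ _ => Nat.zero_le _) (Finset.mem_univ k)
  have p1 := deg_parity φ ha'
  have p2 := deg_parity φ' hb'
  rw [show (∑ l, a l) = 1 by omega] at p1
  rw [show (∑ l, b l) = 1 by omega] at p2
  refine ⟨φ, φ', he, fun χ hχ => hsupp χ fun h0 => hχ ?_, hd, ?_⟩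
  · rw [← classInner_conj_symm, h0, map_zero]
  · have o1 : deg φ % 2 = 1 := by simp [Nat.even_iff] at p1; omega
    have d1 := deg_dvd φ
    have d2 := deg_dvd φ'
    have key : ∀ x < 28, x % 2 = 1 → 6048 % x = 0 → 6048 % (28 - x) = 0 →
        (x = 1 ∨ x = 27 ∨ x = 7 ∨ x = 21) := by decide +kernel
    have hp := deg_pos φ'
    rcases key (deg φ) (by omega) o1 (Nat.mod_eq_zero_of_dvd d1)
      (by rw [show 28 - deg φ = deg φ' by omega]; exact Nat.mod_eq_zero_of_dvd d2) with
      h | h | h | h <;> omega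

theorem exists_deg_twenty_eight : 28 ∈ charDegrees SU9 := by
  have h := (isIrr_iff_norm_one (isCharacter_ind 1)).2 (norm_ind_of_odd (k := 1) (by decide))
  exact ⟨⟨_, h⟩, charDegree_eq_natCast (by simpa using ind_one 1)⟩

theorem exists_deg_twenty_one : 21 ∈ charDegrees SU9 := by
  obtain ⟨φ, φ', he, -, hd, hcase⟩ := even_case (k := 4) (by decide)
  have key : ∀ χ χ' : Irr, ind 4 = (χ : SU9 → ℂ) + (χ' : SU9 → ℂ) → deg χ ≠ 1 := by
    intro χ χ' he h1
    have h := classInner_triv_ind (k := 4)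
    rw [if_neg (by decide), he, classInner_add_right, ← eq_triv h1, classInner_irr_self χ.2] at h
    obtain ⟨n, hn⟩ := classInner_isCharacter_eq_natCast (IsIrr.isCharacter χ.2)
      (IsIrr.isCharacter χ'.2)
    rw [hn] at h
    exact absurd h (by exact_mod_cast (by omega : 1 + n ≠ 0))
  rcases hcase with h | h | h | h
  · exact absurd h.1 (key φ φ' he)
  · exact absurd h.2 (key φ' φ (by rw [he, add_comm]))
  · exact h.2 ▸ deg_mem φ'
  · exact h.1 ▸ deg_mem φ

theorem odd_deg (χ : Irr) (ho : deg χ % 2 = 1) :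
    χ = triv ∨ deg χ = 7 ∨ deg χ = 21 ∨
      (deg χ = 27 ∧ (χ : SU9 → ℂ) = fun g => ind 0 g - 1) := by
  obtain ⟨a, ha, ha'⟩ := exists_mult_ind χ
  have hp := deg_parity χ ha'
  simp only [Nat.even_iff] at hp
  obtain ⟨k, -, hk⟩ := Finset.exists_ne_zero_of_sum_ne_zero (f := a) (s := Finset.univ) (by omega)
  have hk' : classInner (χ : SU9 → ℂ) (ind k) ≠ 0 := by
    rw [ha k]
    exact Nat.cast_ne_zero.2 hk
  rcases parity k with h4 | h4
  · exfalso
    have hI := (isIrr_iff_norm_one (isCharacter_ind k)).2 (norm_ind_of_odd h4)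
    have he : (χ : SU9 → ℂ) = ind k := by
      by_contra hne
      exact hk' (classInner_irr_ne χ.2 hI hne)
    have h := congrFun he 1
    rw [apply_one, ind_one] at h
    have : deg χ = 28 := by exact_mod_cast h
    omega
  obtain ⟨φ, φ', he, hsupp, -, hcase⟩ := even_case h4
  have main : ∀ ψ ψ' : Irr, ind k = (ψ : SU9 → ℂ) + (ψ' : SU9 → ℂ) → deg ψ = 27 → deg ψ' = 1 →
      (ψ : SU9 → ℂ) = fun g => ind 0 g - 1 := by
    intro ψ ψ' he h27 h1
    have h := classInner_triv_ind (k := k)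
    rw [he, classInner_add_right, ← eq_triv h1, classInner_irr_self ψ'.2] at h
    by_cases h0 : k = 0
    · subst h0
      funext g
      have hg := congrFun he g
      rw [eq_triv h1] at hg
      rw [hg]
      simp [triv]
    · rw [if_neg h0, classInner_irr_ne ψ'.2 ψ.2 (fun e => by
        have := congrFun e 1
        rw [apply_one, apply_one, h1, h27] at this
        norm_num at this), zero_add] at h
      exact absurd h one_ne_zero
  rcases hsupp χ hk' with rfl | rfl
  · rcases hcase with h | h | h | h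
    · exact Or.inl (eq_triv h.1)
    · exact Or.inr (Or.inr (Or.inr ⟨h.1, main χ φ' he h.1 h.2⟩))
    · exact Or.inr (Or.inl h.1)
    · exact Or.inr (Or.inr (Or.inl h.1))
  · rcases hcase with h | h | h | h
    · exact Or.inr (Or.inr (Or.inr ⟨h.2, main χ φ (by rw [he, add_comm]) h.2 h.1⟩))
    · exact Or.inl (eq_triv h.2)
    · exact Or.inr (Or.inr (Or.inl h.2))
    · exact Or.inr (Or.inl h.2)

theorem exists_deg_twenty_seven : ∃ χ : Irr, deg χ = 27 := by
  obtain ⟨φ, φ', he, hsupp, -, hcase⟩ := even_case (k := 0) (by decide)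
  have h := hsupp triv (by rw [classInner_triv_ind, if_pos rfl]; exact one_ne_zero)
  rcases h with h | h <;> rw [← h, deg_triv] at hcase
  · exact ⟨φ', by omega⟩
  · exact ⟨φ, by omega⟩

/-- The powers of the element of order seven. -/
def sevenHom : Multiplicative (ZMod 7) →* SU9 where
  toFun j := seven ^ (Multiplicative.toAdd j).val
  map_one' := by simp
  map_mul' a b := by
    rw [← pow_add, toAdd_mul, ZMod.val_add, ← pow_eq_pow_mod _ seven_pow]

theorem sum_powers {f : SU9 → ℂ} (hf : IsCharacter SU9 f) :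
    ∃ k : ℕ, f 1 + f seven + f (seven ^ 2) + f (seven ^ 3) + f (seven ^ 4) + f (seven ^ 5) +
      f (seven ^ 6) = 7 * k := by
  obtain ⟨k, hk⟩ := classInner_isCharacter_eq_natCast (isCharacter_comp sevenHom hf)
    (isCharacter_one (G := Multiplicative (ZMod 7)))
  refine ⟨k, ?_⟩
  rw [← hk, classInner, Fintype.sum_equiv Multiplicative.toAdd (fun g => f (sevenHom g) * conj (1 : ℂ))
    (fun j : ZMod 7 => f (seven ^ j.val) * conj (1 : ℂ)) (fun _ => rfl)]
  rw [show (∑ j : ZMod 7, f (seven ^ j.val) * conj (1 : ℂ)) =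
    ∑ j : Fin 7, f (seven ^ j.val) * conj (1 : ℂ) from rfl, Fin.sum_univ_seven]
  simp

theorem powers_values {f : SU9 → ℂ} (hf : IsCharacter SU9 f) :
    f (seven ^ 2) = f seven ∧ f (seven ^ 4) = f seven ∧ f (seven ^ 3) = conj (f seven) ∧
      f (seven ^ 5) = conj (f seven) ∧ f (seven ^ 6) = conj (f seven) := by
  have hcl := isClassFunction_of_isCharacter hf
  have hc : sq * seven * sq⁻¹ = seven ^ 2 := by rw [sq_conj, mul_inv_cancel_right, pow_two]
  have h2 : f (seven ^ 2) = f seven := by rw [← hc, hcl]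
  have h4 : f (seven ^ 4) = f seven := by
    rw [show seven ^ 4 = sq * seven ^ 2 * sq⁻¹ by
      rw [← conj_pow, hc, ← pow_mul], hcl, h2]
  have hinv : ∀ a b : ℕ, a + b = 7 → f (seven ^ a) = conj (f (seven ^ b)) := fun a b h => by
    rw [← IsChar.inv_eq_conj hf, eq_inv_of_mul_eq_one_left
      (show seven ^ a * seven ^ b = 1 by rw [← pow_add, h, seven_pow])]
  refine ⟨h2, h4, ?_, ?_, ?_⟩
  · rw [hinv 3 4 rfl, h4]
  · rw [hinv 5 2 rfl, h2]
  · rw [hinv 6 1 rfl, pow_one]

theorem sum_powers' {f : SU9 → ℂ} (hf : IsCharacter SU9 f) :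
    ∃ k : ℕ, f 1 + 3 * (f seven + conj (f seven)) = 7 * k := by
  obtain ⟨k, hk⟩ := sum_powers hf
  obtain ⟨h2, h4, h3, h5, h6⟩ := powers_values hf
  refine ⟨k, ?_⟩
  rw [← hk, h2, h3, h4, h5, h6]
  ring

theorem exists_trace (χ : Irr) : ∃ t : ℤ,
    (χ : SU9 → ℂ) seven + conj ((χ : SU9 → ℂ) seven) = t ∧ (7 : ℤ) ∣ t - 2 * deg χ := by
  obtain ⟨k, hk⟩ := sum_powers' (IsIrr.isCharacter χ.2)
  rw [apply_one] at hk
  have hi : IsIntegral ℤ ((χ : SU9 → ℂ) seven + conj ((χ : SU9 → ℂ) seven)) := by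
    refine (IsChar.isIntegral (IsIrr.isCharacter χ.2) _).add ?_
    rw [← IsChar.inv_eq_conj (IsIrr.isCharacter χ.2)]
    exact IsChar.isIntegral (IsIrr.isCharacter χ.2) _
  have he : (χ : SU9 → ℂ) seven + conj ((χ : SU9 → ℂ) seven) =
      (((7 * k - deg χ) / 3 : ℚ) : ℂ) := by
    push_cast
    linear_combination (1 / 3 : ℂ) * hk
  obtain ⟨z, hz⟩ := exists_int_of_isIntegral_rat (he ▸ hi)
  refine ⟨z, by rw [he, ← hz]; norm_num, ?_⟩
  have h : (7 * (k : ℤ) - deg χ) = 3 * z := by
    have : (7 * (k : ℚ) - deg χ) = 3 * z := by rw [hz]; ring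
    exact_mod_cast this
  omega

theorem exists_normSq (χ : Irr) : ∃ n : ℕ,
    (χ : SU9 → ℂ) seven * conj ((χ : SU9 → ℂ) seven) = n ∧ (7 : ℤ) ∣ n - (deg χ : ℤ) * deg χ := by
  have hc := isCharacter_mul (IsIrr.isCharacter χ.2) (isCharacter_conj (IsIrr.isCharacter χ.2))
  obtain ⟨k, hk⟩ := sum_powers' hc
  simp only [Pi.mul_apply, map_mul, Complex.conj_conj, apply_one, map_natCast] at hk
  have hi : IsIntegral ℤ ((χ : SU9 → ℂ) seven * conj ((χ : SU9 → ℂ) seven)) := by
    refine (IsChar.isIntegral (IsIrr.isCharacter χ.2) _).mul ?_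
    rw [← IsChar.inv_eq_conj (IsIrr.isCharacter χ.2)]
    exact IsChar.isIntegral (IsIrr.isCharacter χ.2) _
  have he : (χ : SU9 → ℂ) seven * conj ((χ : SU9 → ℂ) seven) =
      (((7 * k - deg χ * deg χ) / 6 : ℚ) : ℂ) := by
    push_cast
    linear_combination (1 / 6 : ℂ) * hk
  obtain ⟨z, hz⟩ := exists_int_of_isIntegral_rat (he ▸ hi)
  have hz0 : 0 ≤ z := by
    have h1 : ((z : ℤ) : ℂ) = (Complex.normSq ((χ : SU9 → ℂ) seven) : ℂ) := by
      rw [← Complex.mul_conj, he, ← hz]; norm_num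
    have h2 : ((z : ℤ) : ℝ) = Complex.normSq ((χ : SU9 → ℂ) seven) := by
      exact_mod_cast h1
    exact_mod_cast h2 ▸ Complex.normSq_nonneg _
  obtain ⟨n, rfl⟩ := Int.eq_ofNat_of_zero_le hz0
  refine ⟨n, by rw [he, ← hz]; norm_num, ?_⟩
  have h : (7 * (k : ℤ) - deg χ * deg χ) = 6 * (n : ℤ) := by
    have : (7 * (k : ℚ) - deg χ * deg χ) = 6 * ((n : ℤ) : ℚ) := by rw [hz]; ring
    exact_mod_cast this
  omega

theorem trace_sq_le (χ : Irr) {t : ℤ} {n : ℕ}
    (ht : (χ : SU9 → ℂ) seven + conj ((χ : SU9 → ℂ) seven) = t)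
    (hn : (χ : SU9 → ℂ) seven * conj ((χ : SU9 → ℂ) seven) = n) :
    t * t ≤ 4 * n ∧ (t * t ≠ 4 * n → conjIrr χ ≠ χ) := by
  set z := (χ : SU9 → ℂ) seven
  have h1 : (t : ℝ) = 2 * z.re := by
    have := congrArg Complex.re ht
    simpa [two_mul] using this.symm
  have h2 : (n : ℝ) = z.re * z.re + z.im * z.im := by
    have := congrArg Complex.re hn
    simpa using this.symm
  refine ⟨?_, fun hne hreal => hne ?_⟩
  · have : (t : ℝ) * t ≤ 4 * n := by rw [h1, h2]; nlinarith [mul_self_nonneg z.im]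
    exact_mod_cast this
  · have him : z.im = 0 := (conjIrr_eq_iff χ).1 hreal seven
    have : (t : ℝ) * t = 4 * n := by rw [h1, h2, him]; ring
    exact_mod_cast this

theorem deg_cases : ∀ d < 78, d ∣ 6048 → d % 2 = 0 → d % 6 ≠ 0 →
    d % 7 = 0 ∨ d = 2 ∨ d = 4 ∨ d = 8 ∨ d = 16 ∨ d = 32 := by decide +kernel

theorem even_card_of_involution {α : Type*} (s : Finset α) (g : α → α)
    (hg : ∀ a, g (g a) = a) (hs : ∀ a ∈ s, g a ∈ s ∧ g a ≠ a) : Even s.card := by
  have h : ∑ _a ∈ s, (1 : ZMod 2) = 0 :=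
    Finset.sum_involution (fun a _ => g a) (fun _ _ => by decide) (fun a ha _ => (hs a ha).2)
      (fun a ha => (hs a ha).1) (fun a _ => hg a)
  rw [Finset.sum_const, nsmul_eq_mul, mul_one, ZMod.natCast_eq_zero_iff_even] at h
  exact h

theorem exists_deg_dvd_six : ∃ χ : Irr, 6 ∣ deg χ := by
  classical
  by_contra! hno
  choose t ht htm using exists_trace
  choose n hn hnm using exists_normSq
  have hsq : ∀ χ, t χ * t χ ≤ 4 * (n χ : ℤ) := fun χ => (trace_sq_le χ (ht χ) (hn χ)).1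
  have hnr : ∀ χ, t χ * t χ ≠ 4 * (n χ : ℤ) → conjIrr χ ≠ χ := fun χ => (trace_sq_le χ (ht χ) (hn χ)).2
  have hN : ∑ χ, n χ = 7 := by
    have h := second_orthogonality seven seven
    rw [if_pos (IsConj.refl _), card_centralizer_seven, Finset.sum_congr rfl fun χ _ => hn χ] at h
    exact_mod_cast h
  have hT : ∑ χ, (deg χ : ℤ) * t χ = 0 := by
    have hne : seven ≠ 1 := fun h => by
      have := card_centralizer_seven
      rw [h, show Subgroup.centralizer ({1} : Set SU9) = ⊤ by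
        ext; simp [Subgroup.mem_centralizer_singleton_iff], Subgroup.card_top, card_SU] at this
      norm_num at this
    have h := regular_eq_sum seven
    rw [if_neg hne, Finset.sum_congr rfl fun χ _ => by rw [apply_one χ]] at h
    have h' := congrArg conj h
    simp only [map_sum, map_mul, map_natCast, map_zero] at h'
    have : ∑ χ : Irr, (deg χ : ℂ) * (t χ : ℂ) = 0 := by
      rw [Finset.sum_congr rfl fun χ _ => by rw [← ht χ, mul_add], Finset.sum_add_distrib, h, h',
        add_zero]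
    exact_mod_cast this
  obtain ⟨θ, hθ⟩ := exists_deg_twenty_seven
  have hθv : (θ : SU9 → ℂ) = fun g => ind 0 g - 1 := by
    rcases odd_deg θ (by omega) with h | h | h | h
    · rw [h, deg_triv] at hθ; omega
    · omega
    · omega
    · exact h.2
  have htn0 : n triv = 1 ∧ t triv = 2 := by
    have a := ht triv
    have b := hn triv
    simp [triv] at a b
    exact ⟨by exact_mod_cast b.symm, by norm_num at a; exact_mod_cast a.symm⟩
  have htn1 : n θ = 1 ∧ t θ = -2 := by
    have a := ht θ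
    have b := hn θ
    simp [hθv, ind_seven] at a b
    exact ⟨by exact_mod_cast b.symm, by norm_num at a; exact_mod_cast a.symm⟩
  have hne : triv ≠ θ := fun h => by rw [← h, deg_triv] at hθ; omega
  set S := Finset.univ \ ({triv, θ} : Finset Irr) with hS
  have hNS : ∑ χ ∈ S, n χ = 5 := by
    have h := Finset.sum_sdiff (f := n) (Finset.subset_univ ({triv, θ} : Finset Irr))
    rw [Finset.sum_pair hne, hN, htn0.1, htn1.1, ← hS] at h
    omega
  have hTS : ∑ χ ∈ S, (deg χ : ℤ) * t χ = 52 := by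
    have h := Finset.sum_sdiff (f := fun χ => (deg χ : ℤ) * t χ)
      (Finset.subset_univ ({triv, θ} : Finset Irr))
    rw [Finset.sum_pair hne, hT, htn0.2, htn1.2, deg_triv, hθ, ← hS] at h
    push_cast at h
    omega
  have hmem : ∀ χ : Irr, χ ∈ S ↔ χ ≠ triv ∧ χ ≠ θ := fun χ => by simp [S]
  have hn5 : ∀ χ ∈ S, n χ ≤ 5 := fun χ hχ =>
    hNS ▸ Finset.single_le_sum (f := n) (fun _ _ => Nat.zero_le _) hχ
  have hdeg : ∀ χ, deg (conjIrr χ) = deg χ := fun χ =>
    charDegree_eq_natCast (by rw [conjIrr_apply, apply_one, Complex.conj_natCast])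
  have hnc : ∀ χ, n (conjIrr χ) = n χ := fun χ => by
    have h := hn (conjIrr χ)
    rw [conjIrr_apply, Complex.conj_conj, mul_comm, hn χ] at h
    exact_mod_cast h.symm
  have hcS : ∀ χ ∈ S, conjIrr χ ∈ S := fun χ hχ => by
    rw [hmem] at hχ ⊢
    refine ⟨fun h => hχ.1 ?_, fun h => hχ.2 ?_⟩
    · exact eq_triv (by rw [← hdeg, h, deg_triv])
    · rcases odd_deg χ (by rw [← hdeg, h, hθ]) with h' | h' | h' | h'
      · exact absurd h' hχ.1
      · rw [← hdeg, h, hθ] at h'; omega
      · rw [← hdeg, h, hθ] at h'; omega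
      · exact Subtype.ext (h'.2.trans hθv.symm)
  have key : ∀ χ ∈ S, (n χ = 0 ∧ t χ = 0) ∨
      (deg χ = 2 ∧ n χ = 4 ∧ t χ = 4) ∨ (deg χ = 4 ∧ n χ = 2 ∧ t χ = 1) ∨
      (deg χ = 8 ∧ n χ = 1 ∧ t χ = 2) ∨ (deg χ = 16 ∧ n χ = 4 ∧ t χ = 4) ∨
      (deg χ = 32 ∧ n χ = 2 ∧ t χ = 1) := by
    intro χ hχ
    have h5 := hn5 χ hχ
    have h1 := htm χ
    have h2 := hnm χ
    have h3 := hsq χ
    have seven_case : deg χ % 7 = 0 → n χ = 0 ∧ t χ = 0 := fun h7 => by
      have hdd : (7 : ℤ) ∣ (deg χ : ℤ) * deg χ := Dvd.dvd.mul_right (by omega) _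
      have : n χ = 0 := by omega
      refine ⟨this, mul_self_eq_zero.1 (le_antisymm ?_ (mul_self_nonneg _))⟩
      rw [this] at h3
      simpa using h3
    have hlt : deg χ < 78 := by
      by_contra h
      have := Nat.mul_le_mul (le_of_not_gt h) (le_of_not_gt h)
      have := deg_sq_le χ
      omega
    rcases Nat.mod_two_eq_zero_or_one (deg χ) with he | ho
    · rcases deg_cases (deg χ) hlt (deg_dvd χ) he (fun h => hno χ (Nat.dvd_of_mod_eq_zero h)) with
        h | h | h | h | h | h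
      · exact Or.inl (seven_case h)
      all_goals
        rw [h] at h1 h2
        norm_num at h1 h2
        have hnv : n χ ≤ 4 := by omega
        have htb : -4 ≤ t χ ∧ t χ ≤ 4 := ⟨by nlinarith, by nlinarith⟩
      · have hn4 : n χ = 4 := by omega
        rcases (show t χ = 4 ∨ t χ = -3 by omega) with e | e
        · exact Or.inr (Or.inl ⟨h, hn4, e⟩)
        · exfalso
          have hc := hnr χ (by rw [e, hn4]; norm_num)
          have h8 := Finset.sum_le_sum_of_subset (f := n)
            (Finset.insert_subset hχ (Finset.singleton_subset_iff.2 (hcS χ hχ)))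
          rw [Finset.sum_pair hc.symm, hnc, hn4, hNS] at h8
          omega
      · have hn2 : n χ = 2 := by omega
        rw [hn2] at h3
        norm_num at h3
        have : t χ = 1 := by
          have : -2 ≤ t χ ∧ t χ ≤ 2 := ⟨by nlinarith, by nlinarith⟩
          omega
        exact Or.inr (Or.inr (Or.inl ⟨h, hn2, this⟩))
      · have hn1 : n χ = 1 := by omega
        rw [hn1] at h3
        norm_num at h3
        have : t χ = 2 := by
          have : -2 ≤ t χ ∧ t χ ≤ 2 := ⟨by nlinarith, by nlinarith⟩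
          omega
        exact Or.inr (Or.inr (Or.inr (Or.inl ⟨h, hn1, this⟩)))
      · have hn4 : n χ = 4 := by omega
        rcases (show t χ = 4 ∨ t χ = -3 by omega) with e | e
        · exact Or.inr (Or.inr (Or.inr (Or.inr (Or.inl ⟨h, hn4, e⟩))))
        · exfalso
          have hc := hnr χ (by rw [e, hn4]; norm_num)
          have h8 := Finset.sum_le_sum_of_subset (f := n)
            (Finset.insert_subset hχ (Finset.singleton_subset_iff.2 (hcS χ hχ)))
          rw [Finset.sum_pair hc.symm, hnc, hn4, hNS] at h8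
          omega
      · have hn2 : n χ = 2 := by omega
        rw [hn2] at h3
        norm_num at h3
        have : t χ = 1 := by
          have : -2 ≤ t χ ∧ t χ ≤ 2 := ⟨by nlinarith, by nlinarith⟩
          omega
        exact Or.inr (Or.inr (Or.inr (Or.inr (Or.inr ⟨h, hn2, this⟩))))
    · rcases odd_deg χ ho with h | h | h | h
      · exact absurd h ((hmem χ).1 hχ).1
      · exact Or.inl (seven_case (by omega))
      · exact Or.inl (seven_case (by omega))
      · exact absurd (Subtype.ext (h.2.trans hθv.symm)) ((hmem χ).1 hχ).2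
  set W := S.filter fun χ => deg χ = 4 ∧ n χ = 2 with hW
  have hWeven : Even W.card := by
    refine even_card_of_involution W conjIrr conjIrr_conjIrr fun χ hχ => ?_
    obtain ⟨hS', h4, h2⟩ := Finset.mem_filter.1 hχ
    refine ⟨Finset.mem_filter.2 ⟨hcS χ hS', by rw [hdeg, h4], by rw [hnc, h2]⟩, hnr χ ?_⟩
    rcases key χ hS' with h | h | h | h | h | h
    all_goals first
      | omega
      | (obtain ⟨-, -, e⟩ := h; rw [e, h2]; norm_num)
  have hmod : ∀ χ ∈ S, (8 : ℤ) ∣ (deg χ : ℤ) * t χ - if deg χ = 4 ∧ n χ = 2 then 4 else 0 := by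
    intro χ hχ
    rcases key χ hχ with ⟨a, b⟩ | ⟨a, b, c⟩ | ⟨a, b, c⟩ | ⟨a, b, c⟩ | ⟨a, b, c⟩ | ⟨a, b, c⟩
    · simp [a, b]
    all_goals simp [a, b, c]
  have hdvd := Finset.dvd_sum hmod
  rw [Finset.sum_sub_distrib, hTS, ← Finset.sum_filter, ← hW, Finset.sum_const, nsmul_eq_mul] at hdvd
  obtain ⟨w, hw⟩ := hWeven
  rw [hw] at hdvd
  push_cast at hdvd
  omega

end Cfsg.Agent.U33
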