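import Cfsg.Prelude.Def_DegreeGraph
import Cfsg.Agent.Char.AvgDegree
import Cfsg.Agent.Char.Gen
import Cfsg.Agent.Char.UniqueDivisible
import Mathlib.NumberTheory.LegendreSymbol.Complex

/-!
A solvable group of order 6048 with an irreducible character of degree 42: the affine group of the
ring `F₈ × ℤ/18`.
-/

set_option autoImplicit false

namespace Cfsg.Agent.U33.Affine

open Cfsg Cfsg.Agent.Char

/-- The ring. -/
abbrev R : Type := GaloisField 2 3 × ZMod 18

noncomputable instance : Fintype R := Fintype.ofFinite _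

/-- The action of the units. -/
noncomputable def mulAut : Rˣ →* MulAut (Multiplicative R) where
  toFun u := AddEquiv.toMultiplicative
    { toFun := fun x => (u : R) * x
      invFun := fun x => ((u⁻¹ : Rˣ) : R) * x
      left_inv := fun x => by simp [← mul_assoc]
      right_inv := fun x => by simp [← mul_assoc]
      map_add' := fun x y => mul_add _ _ _ }
  map_one' := by ext x <;> simp
  map_mul' u v := by ext x <;> simp [mul_assoc]

theorem mulAut_apply (u : Rˣ) (x : Multiplicative R) :
    mulAut u x = Multiplicative.ofAdd ((u : R) * Multiplicative.toAdd x) := rfl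

/-- The group. -/
abbrev H : Type := Multiplicative R ⋊[mulAut] Rˣ

theorem isSolvable : Group.IsSolvable H :=
  solvable_of_ker_le_range (SemidirectProduct.inl (φ := mulAut)) SemidirectProduct.rightHom
    (SemidirectProduct.range_inl_eq_ker_rightHom (φ := mulAut)).ge

theorem card_galois : Nat.card (GaloisField 2 3) = 8 := GaloisField.card 2 3 (by norm_num)

theorem card_R : Nat.card R = 144 := by
  rw [Nat.card_prod, card_galois, Nat.card_zmod]

theorem card_units : Nat.card Rˣ = 42 := by
  classical
  rw [Nat.card_congr MulEquiv.prodUnits.toEquiv, Nat.card_prod, Nat.card_units, card_galois,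
    Nat.card_eq_fintype_card (α := (ZMod 18)ˣ), ZMod.card_units_eq_totient]
  decide

theorem card_H : Nat.card H = 6048 := by
  rw [SemidirectProduct.card, card_units]
  show Nat.card R * 42 = 6048
  rw [card_R]

theorem exists_primitive : ∃ ψ : AddChar R ℂ, ∀ r : R, r ≠ 0 → ∃ s : R, ψ (r * s) ≠ 1 := by
  let χ₁ : AddChar (GaloisField 2 3) ℂ := AddChar.FiniteField.primitiveChar_to_Complex (GaloisField 2 3)
  let χ₂ : AddChar (ZMod 18) ℂ := ZMod.stdAddChar
  have h1 : χ₁.IsPrimitive := AddChar.FiniteField.primitiveChar_to_Complex_isPrimitive (GaloisField 2 3)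
  have h2 : χ₂.IsPrimitive := ZMod.isPrimitive_stdAddChar 18
  let ψ : AddChar R ℂ :=
    χ₁.compAddMonoidHom (AddMonoidHom.fst _ _) * χ₂.compAddMonoidHom (AddMonoidHom.snd _ _)
  refine ⟨ψ, fun r hr => ?_⟩
  have hval : ∀ x : R, ψ x = χ₁ x.1 * χ₂ x.2 := fun x => rfl
  rcases em (r.1 = 0) with h | h
  · have hr2 : r.2 ≠ 0 := fun h' => hr (Prod.ext h h')
    obtain ⟨s, hs⟩ := AddChar.ne_one_iff.1 (h2 hr2)
    refine ⟨(0, s), ?_⟩
    rw [AddChar.mulShift_apply] at hs
    simpa [hval] using hs
  · obtain ⟨s, hs⟩ := AddChar.ne_one_iff.1 (h1 h)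
    refine ⟨(s, 0), ?_⟩
    rw [AddChar.mulShift_apply] at hs
    simpa [hval] using hs

/-- The translations. -/
noncomputable abbrev N : Subgroup H := (SemidirectProduct.inl (φ := mulAut)).range

theorem mem_N {g : H} : g ∈ N ↔ g.right = 1 := by
  show g ∈ (SemidirectProduct.inl (φ := mulAut)).range ↔ _
  rw [SemidirectProduct.range_inl_eq_ker_rightHom, MonoidHom.mem_ker]
  rfl

/-- A linear character of the translations. -/
noncomputable def lin (ψ : AddChar R ℂ) : N →* ℂˣ :=
  MonoidHom.toHomUnits
    { toFun := fun g => ψ (Multiplicative.toAdd g.1.left)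
      map_one' := by simp
      map_mul' := fun g h => by
        have hg := mem_N.1 g.2
        simp [hg, AddChar.map_add_eq_mul] }

theorem index_N : N.index = 42 := by
  have hN : Nat.card N = 144 := by
    rw [← Nat.card_congr (MonoidHom.ofInjective
      (SemidirectProduct.inl_injective (φ := mulAut))).toEquiv]
    exact card_R
  have h := N.card_mul_index
  rw [card_H, hN] at h
  omega

theorem exists_deg : 42 ∈ charDegrees H := by
  classical
  obtain ⟨ψ, hψ⟩ := exists_primitive
  haveI : Finite H := Nat.finite_of_card_ne_zero (by rw [card_H]; norm_num)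
  haveI : Fintype H := Fintype.ofFinite _
  haveI : Fintype N := Fintype.ofFinite _
  have hsep : ∀ x ∉ N, ∃ (n : N) (h : x⁻¹ * n * x ∈ N), lin ψ n ≠ lin ψ ⟨_, h⟩ := by
    intro x hx
    rw [mem_N] at hx
    have hu : ((x.right⁻¹ : Rˣ) : R) - 1 ≠ 0 := by
      rw [sub_ne_zero]
      intro h
      exact hx (inv_eq_one.1 (Units.ext h))
    obtain ⟨s, hs⟩ := hψ _ hu
    let n : N := ⟨SemidirectProduct.inl (Multiplicative.ofAdd s), ⟨_, rfl⟩⟩
    have hm : x⁻¹ * n * x ∈ N := by
      rw [mem_N]
      simp [n]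
    have hl : Multiplicative.toAdd (x⁻¹ * (n : H) * x).left = ((x.right⁻¹ : Rˣ) : R) * s := by
      simp [n, mul_add]
      rfl
    refine ⟨n, hm, fun h => hs ?_⟩
    have h' : ψ s = ψ (Multiplicative.toAdd (x⁻¹ * (n : H) * x).left) :=
      congrArg Units.val h
    rw [hl] at h'
    rw [sub_mul, one_mul]
    have h3 : ψ ((((x.right⁻¹ : Rˣ) : R) * s - s) + s) = ψ s := by rw [sub_add_cancel]; exact h'.symm
    rw [AddChar.map_add_eq_mul] at h3
    have hne : ψ s ≠ 0 := fun h0 => by
      have := ψ.map_add_eq_mul s (-s)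
      rw [add_neg_cancel, AddChar.map_zero_eq_one, h0, zero_mul] at this
      exact one_ne_zero this
    exact (mul_eq_right₀ hne).1 h3
  have hn := classInner_ind_hom N (lin ψ) (lin ψ) hsep
  rw [classInner_irr_self (isIrrCharacter_hom (lin ψ))] at hn
  have hc := isCharacter_indFun N (isCharacter_hom (lin ψ))
  refine ⟨⟨_, (isIrr_iff_norm_one hc).2 hn⟩, charDegree_eq_natCast ?_⟩
  show indFun N _ 1 = _
  rw [indFun_apply_one, index_N, map_one, Units.val_one, mul_one]

end Cfsg.Agent.U33.Affine
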